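import Mathlib
import Cfsg.Prelude.Def_Classical
import Cfsg.Agent.Lib.Helper13.S5955.Defs

set_option autoImplicit false

/-!
# Projects S5953 / S5954 (PSU_n(q) on totally isotropic / non-degenerate m-spaces): definitions

Everything lives on a concrete coordinate space `ι → F` (`ι` a fintype) with the standard hermitian form
`hermI ι F q u v = ∑ i, u i * v i ^ q`; for `ι = Fin n` this is `Cfsg.hermForm n F q` of the Prelude by `rfl`
(`hermI_fin`).  Block sums are taken over index types like `(Fin A × κ) ⊕ ω` and moved to `Fin n` by reindexing.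
`HInv` is helper24's `ElInv`; `fixS`, `cycS` are those of `Helper13.S5955.Defs`.
-/

namespace Cfsg.Agent.Lib.helper3.S5953

open Polynomial Module

variable {F : Type*} [Field F] {ι : Type*} [Fintype ι]

/-- the standard hermitian form `∑ i, u i * v i ^ q` on `ι → F` -/
def hermI (ι : Type*) [Fintype ι] (F : Type*) [Field F] (q : ℕ) (u v : ι → F) : F :=
  ∑ i, u i * v i ^ q

theorem hermI_fin (n q : ℕ) (u v : Fin n → F) :
    hermI (Fin n) F q u v = Cfsg.hermForm n F q u v := rfl

theorem hermI_add_left (q : ℕ) (u u' v : ι → F) :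
    hermI ι F q (u + u') v = hermI ι F q u v + hermI ι F q u' v := by
  simp only [hermI, Pi.add_apply, add_mul, Finset.sum_add_distrib]

theorem hermI_smul_left (q : ℕ) (c : F) (u v : ι → F) :
    hermI ι F q (c • u) v = c * hermI ι F q u v := by
  simp only [hermI, Pi.smul_apply, smul_eq_mul, mul_assoc, Finset.mul_sum]

theorem hermI_zero_left (q : ℕ) (v : ι → F) : hermI ι F q 0 v = 0 := by
  simp [hermI]

theorem hermI_smul_right (q : ℕ) (c : F) (u v : ι → F) :
    hermI ι F q u (c • v) = c ^ q * hermI ι F q u v := by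
  simp only [hermI, Pi.smul_apply, smul_eq_mul, mul_pow, Finset.mul_sum]
  exact Finset.sum_congr rfl (fun i _ => by ring)

/-- `W` is invariant under `x` (helper24's `ElInv`) -/
abbrev HInv {V : Type*} [AddCommGroup V] [Module F V] (x : Module.End F V) (W : Submodule F V) : Prop :=
  Cfsg.Agent.Lib.Helper24.ElInv x W

/-- the fixed space `ker (x - 1)` -/
noncomputable abbrev fixS {V : Type*} [AddCommGroup V] [Module F V] (x : Module.End F V) :
    Submodule F V :=
  Cfsg.Agent.Lib.Helper13.S5955.fixS x

/-- the cyclotomic part `ker Φ_r(x)` -/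
noncomputable abbrev cycS {V : Type*} [AddCommGroup V] [Module F V] (r : ℕ) (x : Module.End F V) :
    Submodule F V :=
  Cfsg.Agent.Lib.Helper13.S5955.cycS r x

/-- `W` is totally isotropic -/
def HTI (q : ℕ) (W : Submodule F (ι → F)) : Prop :=
  ∀ u ∈ W, ∀ v ∈ W, hermI ι F q u v = 0

/-- the form is non-degenerate on `N` -/
def HND (q : ℕ) (N : Submodule F (ι → F)) : Prop :=
  ∀ u ∈ N, (∀ v ∈ N, hermI ι F q u v = 0) → u = 0

/-- `U` and `W` are orthogonal -/
def HOrth (q : ℕ) (U W : Submodule F (ι → F)) : Prop :=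
  ∀ u ∈ U, ∀ w ∈ W, hermI ι F q u w = 0

/-- the orthogonal `{u | ∀ w ∈ U, h(u, w) = 0}` (the form is linear in the first variable; for `|F| = q ^ 2` it is
conjugate-symmetric, so this is also `{u | ∀ w ∈ U, h(w, u) = 0}`) -/
def hperp (q : ℕ) (U : Submodule F (ι → F)) : Submodule F (ι → F) where
  carrier := {u | ∀ w ∈ U, hermI ι F q u w = 0}
  add_mem' := by
    intro a b ha hb w hw
    rw [hermI_add_left, ha w hw, hb w hw, add_zero]
  zero_mem' := by
    intro w _
    exact hermI_zero_left q w
  smul_mem' := by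
    intro c a ha w hw
    rw [hermI_smul_left, ha w hw, mul_zero]

theorem mem_hperp (q : ℕ) (U : Submodule F (ι → F)) (u : ι → F) :
    u ∈ hperp q U ↔ ∀ w ∈ U, hermI ι F q u w = 0 := Iff.rfl

/-- the context: `x` is an isometry of the standard hermitian space `ι → F` with `x ^ r = z • 1`, `z ≠ 0`
(`z = 1` for the split elements) -/
structure HCtx (q r : ℕ) (z : F) (x : Module.End F (ι → F)) : Prop where
  pres : ∀ u v, hermI ι F q (x u) (x v) = hermI ι F q u v
  pow : x ^ r = z • 1
  ne : z ≠ 0

/-- `m` is the dimension of some totally isotropic invariant subspace -/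
def HTId (q : ℕ) (x : Module.End F (ι → F)) (m : ℕ) : Prop :=
  ∃ W : Submodule F (ι → F), HInv x W ∧ HTI q W ∧ Module.finrank F W = m

/-- `m` is the dimension of some non-degenerate invariant subspace -/
def HNDd (q : ℕ) (x : Module.End F (ι → F)) (m : ℕ) : Prop :=
  ∃ W : Submodule F (ι → F), HInv x W ∧ HND q W ∧ Module.finrank F W = m

/-- the set of totally isotropic `m`-spaces, as in the frozen statement S5953 -/
abbrev HTIm (n m : ℕ) (F : Type*) [Field F] (q : ℕ) : Type _ :=
  {W : Submodule F (Fin n → F) //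
    Module.finrank F ↥W = m ∧ (∀ u ∈ W, ∀ v ∈ W, Cfsg.hermForm n F q u v = 0)}

/-- the set of non-degenerate `m`-spaces, as in the frozen statement S5954 -/
abbrev HNDm (n m : ℕ) (F : Type*) [Field F] (q : ℕ) : Type _ :=
  {W : Submodule F (Fin n → F) //
    Module.finrank F ↥W = m ∧ (∀ u ∈ W, u ≠ 0 → ∃ v ∈ W, Cfsg.hermForm n F q u v ≠ 0)}

/-- the block dimension `b = ord_r(q²)` in terms of `i = ord_r(q)` -/
def bb (i : ℕ) : ℕ := if Even i then i / 2 else i

/-- the non-degenerate block dimension `c = ord_r(-q)` in terms of `i = ord_r(q)` -/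
def cc (i : ℕ) : ℕ := if i % 4 = 0 then i else if i % 4 = 2 then i / 2 else 2 * i

/-- the norm-one group `{w | w ^ (q + 1) = 1}` as a predicate -/
def IsN1 (q : ℕ) (w : F) : Prop := w ^ (q + 1) = 1

/-! ### the matrix bridge -/

/-- an element of `SU n F q` acts as an isometry (`Matrix.toLin'` form) -/
theorem su_pres {n q : ℕ} (x : Matrix.SpecialLinearGroup (Fin n) F) (hx : x ∈ Cfsg.SU n F q)
    (u v : Fin n → F) :
    hermI (Fin n) F q (Matrix.toLin' (x : Matrix (Fin n) (Fin n) F) u)
      (Matrix.toLin' (x : Matrix (Fin n) (Fin n) F) v) = hermI (Fin n) F q u v := by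
  have h := hx u v
  rw [Matrix.toLin'_apply, Matrix.toLin'_apply]
  exact h

/-- conversely a matrix of determinant one acting as an isometry is in `SU n F q` -/
theorem mem_su_of_pres {n q : ℕ} (x : Matrix.SpecialLinearGroup (Fin n) F)
    (h : ∀ u v : Fin n → F,
      hermI (Fin n) F q (Matrix.toLin' (x : Matrix (Fin n) (Fin n) F) u)
        (Matrix.toLin' (x : Matrix (Fin n) (Fin n) F) v) = hermI (Fin n) F q u v) :
    x ∈ Cfsg.SU n F q := by
  intro u v
  have h1 := h u v
  rw [Matrix.toLin'_apply, Matrix.toLin'_apply] at h1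
  exact h1

end Cfsg.Agent.Lib.helper3.S5953
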