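import Mathlib
import Cfsg.Agent.Lib.helper3.S5953.Defs

set_option autoImplicit false

/-!
# Projects S5953 / S5954: block sums and reindexing of standard hermitian spaces
-/

namespace Cfsg.Agent.Lib.helper3.S5953

open Module

variable {F : Type*} [Field F]

/-- index type of a block sum: `A` blocks indexed by `κ` and a remainder indexed by `ω` -/
abbrev BIdx (A : ℕ) (κ ω : Type*) : Type _ := (Fin A × κ) ⊕ ω

/-- the block-diagonal endomorphism: `y a` on the `a`-th block, the identity on the remainder -/
def bsumX {A : ℕ} {κ : Type*} (ω : Type*) (y : Fin A → Module.End F (κ → F)) :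
    Module.End F (BIdx A κ ω → F) where
  toFun v := Sum.elim (fun ak : Fin A × κ => y ak.1 (fun k => v (Sum.inl (ak.1, k))) ak.2)
    (fun o => v (Sum.inr o))
  map_add' u v := by
    funext j
    rcases j with ⟨a, k⟩ | o
    · have h : (fun k' => (u + v) (Sum.inl (a, k'))) =
          (fun k' => u (Sum.inl (a, k'))) + (fun k' => v (Sum.inl (a, k'))) := rfl
      show (y a) (fun k' => (u + v) (Sum.inl (a, k'))) k = _
      rw [h, map_add]
      rfl
    · simp only [Sum.elim_inr, Pi.add_apply]
  map_smul' c v := by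
    funext j
    rcases j with ⟨a, k⟩ | o
    · have h : (fun k' => (c • v) (Sum.inl (a, k'))) = c • (fun k' => v (Sum.inl (a, k'))) := rfl
      show (y a) (fun k' => (c • v) (Sum.inl (a, k'))) k = _
      rw [h, map_smul]
      rfl
    · simp only [Sum.elim_inr, Pi.smul_apply, RingHom.id_apply]

theorem bsumX_inl {A : ℕ} {κ : Type*} (ω : Type*) (y : Fin A → Module.End F (κ → F))
    (v : BIdx A κ ω → F) (a : Fin A) (k : κ) :
    bsumX ω y v (Sum.inl (a, k)) = y a (fun k' => v (Sum.inl (a, k'))) k := rfl

theorem bsumX_inr {A : ℕ} {κ : Type*} (ω : Type*) (y : Fin A → Module.End F (κ → F))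
    (v : BIdx A κ ω → F) (o : ω) : bsumX ω y v (Sum.inr o) = v (Sum.inr o) := rfl

/-- reindexing along an equivalence of index types -/
def reidx {ι ι' : Type*} (e : ι ≃ ι') : (ι → F) ≃ₗ[F] (ι' → F) :=
  LinearEquiv.funCongrLeft F F e.symm

theorem reidx_apply {ι ι' : Type*} (e : ι ≃ ι') (u : ι → F) (j : ι') :
    reidx e u j = u (e.symm j) := rfl

/-- reindexing is an isometry -/
theorem hermI_reidx {ι ι' : Type*} [Fintype ι] [Fintype ι'] (q : ℕ) (e : ι ≃ ι') (u v : ι → F) :
    hermI ι' F q (reidx e u) (reidx e v) = hermI ι F q u v := by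
  simp only [hermI, reidx_apply]
  exact Fintype.sum_equiv e.symm _ _ (fun _ => rfl)

/-- the conjugate of an endomorphism by a reindexing -/
def reX {ι ι' : Type*} (e : ι ≃ ι') (y : Module.End F (ι → F)) : Module.End F (ι' → F) :=
  (reidx e).conj y

theorem reX_apply {ι ι' : Type*} (e : ι ≃ ι') (y : Module.End F (ι → F)) (u : ι → F) :
    reX e y (reidx e u) = reidx e (y u) := by
  simp [reX, LinearEquiv.conj_apply]

end Cfsg.Agent.Lib.helper3.S5953
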